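import Mathlib

/-!
# Derived categories of Serre quotients with a section
-/

set_option autoImplicit false
set_option linter.style.haveILetI false

universe w w' v v' u u'

open CategoryTheory CategoryTheory.Limits CategoryTheory.Pretriangulated

namespace VerdierQuotLib

section Adj

variable {C D : Type*} [Category* C] [Category* D] [Preadditive C] [Preadditive D] {G : C ⥤ D}
  {R : D ⥤ C} (adj : G ⊣ R) [G.Additive] [R.Additive] {ι : Type*} (c : ComplexShape ι)

/-- An adjunction of additive functors induces an adjunction on complexes. -/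
def cxAdj : G.mapHomologicalComplex c ⊣ R.mapHomologicalComplex c where
  unit :=
    { app := fun K =>
        { f := fun i => adj.unit.app (K.X i)
          comm' := fun i j _ => (adj.unit.naturality (K.d i j)).symm }
      naturality := fun K L f => by ext i; exact adj.unit.naturality (f.f i) }
  counit :=
    { app := fun K =>
        { f := fun i => adj.counit.app (K.X i)
          comm' := fun i j _ => (adj.counit.naturality (K.d i j)).symm }
      naturality := fun K L f => by ext i; exact adj.counit.naturality (f.f i) }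
  left_triangle_components K := by ext i; exact adj.left_triangle_components _
  right_triangle_components K := by ext i; exact adj.right_triangle_components _

theorem isIso_cxAdj_unit [IsIso adj.unit] : IsIso (cxAdj adj c).unit := by
  haveI : ∀ K, IsIso ((cxAdj adj c).unit.app K) := fun K => by
    haveI : ∀ i, IsIso (((cxAdj adj c).unit.app K).f i) := fun i =>
      inferInstanceAs (IsIso (adj.unit.app (K.X i)))
    exact HomologicalComplex.Hom.isIso_of_components _
  exact NatIso.isIso_of_isIso_app _

end Adj

variable {A : Type u} [Category.{v} A] [Abelian A] [HasDerivedCategory.{w} A]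
  {Q : Type u'} [Category.{v'} Q] [Abelian Q] [HasDerivedCategory.{w'} Q]

open ZeroObject in
theorem isZero_derived_iff (X : DerivedCategory A) :
    IsZero X ↔ ∀ n : ℤ, IsZero ((DerivedCategory.homologyFunctor A n).obj X) := by
  refine ⟨fun h n => Functor.map_isZero _ h, fun h => ?_⟩
  haveI : IsIso (0 : X ⟶ 0) := by
    rw [DerivedCategory.isIso_iff]
    exact fun n => ⟨0, (h n).eq_of_src _ _,
      (Functor.map_isZero (DerivedCategory.homologyFunctor A n) (isZero_zero _)).eq_of_src _ _⟩
  exact IsZero.of_iso (isZero_zero _) (asIso (0 : X ⟶ 0))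

variable (P : ObjectProperty A) [P.IsSerreClass] (L : A ⥤ Q) [L.IsLocalization P.isoModSerre]
  [L.Additive] [PreservesFiniteLimits L] [PreservesFiniteColimits L]

theorem isZero_map_iff (X : DerivedCategory A) :
    IsZero (L.mapDerivedCategory.obj X) ↔
      ∀ n : ℤ, P ((DerivedCategory.homologyFunctor A n).obj X) := by
  obtain ⟨K, ⟨e⟩⟩ : ∃ K, Nonempty (DerivedCategory.Q.obj K ≅ X) :=
    ⟨_, ⟨DerivedCategory.Q.objObjPreimageIso X⟩⟩
  have e₂ : L.mapDerivedCategory.obj X ≅
      DerivedCategory.Q.obj ((L.mapHomologicalComplex _).obj K) :=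
    L.mapDerivedCategory.mapIso e.symm ≪≫ L.mapDerivedCategoryFactors.app K
  rw [e₂.isZero_iff, isZero_derived_iff]
  refine forall_congr' fun n => ?_
  have e₃ : (DerivedCategory.homologyFunctor Q n).obj
      (DerivedCategory.Q.obj ((L.mapHomologicalComplex _).obj K)) ≅ L.obj (K.homology n) :=
    (DerivedCategory.homologyFunctorFactors Q n).app _ ≪≫ (K.sc n).mapHomologyIso L
  have e₄ : (DerivedCategory.homologyFunctor A n).obj X ≅ K.homology n :=
    (DerivedCategory.homologyFunctor A n).mapIso e.symm ≪≫
      (DerivedCategory.homologyFunctorFactors A n).app K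
  rw [e₃.isZero_iff, ObjectProperty.SerreClassLocalization.isZero_obj_iff L P]
  exact (P.prop_iff_of_iso e₄).symm

theorem isIso_map_iff {X Y : DerivedCategory A} (f : X ⟶ Y) :
    IsIso (L.mapDerivedCategory.map f) ↔
      ObjectProperty.trW
        (fun X : DerivedCategory A => ∀ n : ℤ, P ((DerivedCategory.homologyFunctor A n).obj X)) f := by
  obtain ⟨Z, g, h, hT⟩ := distinguished_cocone_triangle f
  let S : ObjectProperty (DerivedCategory A) :=
    fun X => ∀ n : ℤ, P ((DerivedCategory.homologyFunctor A n).obj X)
  haveI : S.IsClosedUnderIsomorphisms :=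
    ⟨fun e h n => P.prop_of_iso ((DerivedCategory.homologyFunctor A n).mapIso e) (h n)⟩
  refine Iff.trans ?_ (S.trW_iff_of_distinguished _ hT).symm
  change _ ↔ ∀ n : ℤ, P ((DerivedCategory.homologyFunctor A n).obj Z)
  rw [← isZero_map_iff P L Z]
  exact ((L.mapDerivedCategory.mapTriangle.obj (Triangle.mk f g h)).isZero₃_iff_isIso₁
    (L.mapDerivedCategory.map_distinguished _ hT)).symm

variable (u : Q ⥤ A) (adj : u ⊣ L) [IsIso adj.unit]

include adj in
theorem isLocalization_mapDerivedCategory :
    L.mapDerivedCategory.IsLocalization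
      (ObjectProperty.trW
        (fun X : DerivedCategory A => ∀ n : ℤ, P ((DerivedCategory.homologyFunctor A n).obj X))) := by
  haveI : u.Additive := adj.left_adjoint_additive
  let c := ComplexShape.up ℤ
  let adj' := cxAdj adj c
  haveI := isIso_cxAdj_unit adj c
  haveI : (u.mapHomologicalComplex c).Full := adj'.fullyFaithfulLOfIsIsoUnit.full
  haveI : (u.mapHomologicalComplex c).Faithful := adj'.fullyFaithfulLOfIsIsoUnit.faithful
  haveI hL₁ := adj'.isLocalization'
  let W₁ := (MorphismProperty.isomorphisms (CochainComplex Q ℤ)).inverseImage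
    (L.mapHomologicalComplex c)
  let W₃ : MorphismProperty (CochainComplex A ℤ) :=
    (MorphismProperty.isomorphisms (DerivedCategory Q)).inverseImage
      (DerivedCategory.Q ⋙ L.mapDerivedCategory)
  have hW₃ : ∀ ⦃K K' : CochainComplex A ℤ⦄ (f : K ⟶ K'), W₃ f ↔
      HomologicalComplex.quasiIso Q c ((L.mapHomologicalComplex c).map f) := by
    intro K K' f
    change IsIso (L.mapDerivedCategory.map (DerivedCategory.Q.map f)) ↔
      QuasiIso ((L.mapHomologicalComplex c).map f)
    rw [← DerivedCategory.isIso_Q_map_iff_quasiIso]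
    exact NatIso.isIso_map_iff L.mapDerivedCategoryFactors f
  have hcomp : (L.mapHomologicalComplex c ⋙ DerivedCategory.Q).IsLocalization W₃ := by
    refine Functor.IsLocalization.comp _ _ W₁ (HomologicalComplex.quasiIso Q c) W₃
      (fun K K' f hf => ?_) (fun K K' f hf => ?_) (fun K K' s hs => ?_)
    · exact (DerivedCategory.isIso_Q_map_iff_quasiIso Q _).2 ((hW₃ f).1 hf)
    · rw [hW₃]
      haveI : IsIso ((L.mapHomologicalComplex c).map f) := hf
      exact (inferInstance : QuasiIso ((L.mapHomologicalComplex c).map f))
    · let e : Arrow.mk ((L.mapHomologicalComplex c).map ((u.mapHomologicalComplex c).map s)) ≅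
          Arrow.mk s :=
        (Arrow.isoMk (asIso (adj'.unit.app K)) (asIso (adj'.unit.app K'))
          ((adj'.unit.naturality s).symm)).symm
      refine ⟨_, _, (u.mapHomologicalComplex c).map s, ?_, ⟨e⟩⟩
      rw [hW₃]
      exact ((HomologicalComplex.quasiIso Q c).arrow_mk_iso_iff e).2 hs
  haveI : (DerivedCategory.Q ⋙ L.mapDerivedCategory).IsLocalization W₃ :=
    haveI := hcomp
    Functor.IsLocalization.of_iso W₃ L.mapDerivedCategoryFactors.symm
  refine Functor.IsLocalization.of_comp DerivedCategory.Q L.mapDerivedCategory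
    (HomologicalComplex.quasiIso A c) _ W₃ (fun K K' f hf => ?_) ?_
  · change IsIso (L.mapDerivedCategory.map (DerivedCategory.Q.map f))
    haveI := (DerivedCategory.isIso_Q_map_iff_quasiIso A f).2 hf
    infer_instance
  · ext X Y f
    rw [← isIso_map_iff P L f]
    constructor
    · intro hf
      let eX := DerivedCategory.Q.objObjPreimageIso X
      let eY := DerivedCategory.Q.objObjPreimageIso Y
      obtain ⟨X', s, hs, g, hg⟩ := DerivedCategory.right_fac (eX.hom ≫ f ≫ eY.inv)
      let e : Arrow.mk (DerivedCategory.Q.map g) ≅ Arrow.mk f :=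
        Arrow.isoMk (asIso (DerivedCategory.Q.map s) ≪≫ eX) eY (by
          have h := congrArg (DerivedCategory.Q.map s ≫ ·) hg
          simp only [IsIso.hom_inv_id_assoc] at h
          simp [← h])
      refine ⟨_, _, g, ?_, ⟨e⟩⟩
      exact ((MorphismProperty.isomorphisms _).arrow_mk_iso_iff
        (L.mapDerivedCategory.mapArrow.mapIso e)).2 hf
    · rintro ⟨K, K', g, hg, ⟨e⟩⟩
      exact ((MorphismProperty.isomorphisms _).arrow_mk_iso_iff
        (L.mapDerivedCategory.mapArrow.mapIso e)).1 hg

end VerdierQuotLib
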